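import Groth.Agent.Lib.HomSpace15.Limit
import Groth.Agent.Lib.BigCell21.Cell
import Groth.Agent.Lib.BorelLam21.Groups
import Groth.Agent.Lib.OrbitTop19.Flat
import Groth.Agent.Lib.TorPts21.ConjDom
import Groth.Agent.Lib.TorPts21.ParabolicNormalizer
import Groth.Agent.Lib.RadBC15.Gug

/-!
# A Borel subgroup is detected by homomorphisms
-/

set_option autoImplicit false
set_option linter.style.haveILetI false
set_option backward.isDefEq.respectTransparency false
set_option backward.isDefEq.respectTransparency.types false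
set_option maxSynthPendingDepth 3
set_option synthInstance.maxHeartbeats 400000
universe u

open CategoryTheory Limits MonoidalCategory CartesianMonoidalCategory MonObj AlgebraicGeometry
open Groth.Agent

noncomputable section

namespace Groth.Agent.HomSpace15

open MatGrp21 DiagGL TorPts21 BigCell21 AttrBorel21 InvRing21
open scoped Matrix

attribute [local instance] InvRing21.gamAlg BorelFix21.ptsTop

variable {k : Type u} [Field k] {n d : ℕ} {G : Over (Spec (CommRingCat.of k))}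

/-- Vanishing where the weight increases, on rational points. -/
theorem blk_iff_blockUp (r : G ⟶ GLs k n) (w : Fin n → ℤ) (x : VecGrp.pt k k ⟶ G) :
    Blk w (mat (x ≫ r)) ↔ mtxFn r x ∈ blockUp w := by
  constructor
  · intro h i j hij
    rw [coe_mtxFn, mtxMat, Matrix.map_apply, h i j hij, map_zero]
  · intro h i j hij
    refine BorelFix21.ptHom_bijective.1 ?_
    rw [map_zero]
    have := h i j hij
    rw [coe_mtxFn, mtxMat, Matrix.map_apply] at this
    exact this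

variable [IsAlgClosed k] [GrpObj G] [IsAffine G.left] [Smooth G.hom] [ConnectedSpace G.left]

set_option maxHeartbeats 1600000 in
/-- The open cell with its scheme structure. -/
theorem exists_cell : ∃ (n d : ℕ) (T : Over (Spec (CommRingCat.of k))) (_ : GrpObj T) (iT : T ⟶ G) (_ : IsMonHom iT)
    (C : Chars (Fin d → ℤ) T) (r : G ⟶ GLs k n) (_ : IsMonHom r) (_ : IsClosedImmersion r.left)
    (a : Fin n → Fin d → ℤ) (b : Fin d → ℤ)
    (_ : ∀ (X : Over (Spec (CommRingCat.of k))) (x : X ⟶ T),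
      mat ((x ≫ iT) ≫ r) = Matrix.diagonal fun j => C.ch x (Multiplicative.ofAdd (a j)))
    (B : Over (Spec (CommRingCat.of k))) (_ : GrpObj B) (iB : B ⟶ G) (U : Over (Spec (CommRingCat.of k)))
    (π : U ⟶ G), Red.IsBorelOver k iB ∧
      (∀ (X : Over (Spec (CommRingCat.of k))) (x : X ⟶ G), Blk (wt a (-b)) (mat (x ≫ r)) →
        ∃ y : X ⟶ B, y ≫ iB = x) ∧
      Flat π.left ∧ LocallyOfFinitePresentation π.left ∧
      (∃ u : VecGrp.pt k k ⟶ U, u ≫ π = 1) ∧
      ∀ (X : Over (Spec (CommRingCat.of k))) (x : X ⟶ U), ∃ (p : X ⟶ B) (q : X ⟶ G),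
        x ≫ π = (p ≫ iB) * q ∧ Blk (wt a b) (mat (q ≫ r)) := by
  classical
  obtain ⟨T, _, iT, hT⟩ := exists_maxTorus G
  haveI := hT.1
  haveI := hT.2.1
  obtain ⟨hTa, hTs, hTc, -⟩ := props_of_isTorus hT.2.2.1
  haveI := hTa
  haveI := hTs
  haveI := hTc
  haveI := isClosedImmersion_of_torus hT.2.2.1 iT
  obtain ⟨d, ⟨C⟩⟩ := exists_chars hT.2.2.1
  obtain ⟨n, r, hr, hrc, a, hdiag⟩ := exists_diagRep C iT
  haveI := hr
  haveI := hrc
  have hdiag' : ∀ τ : VecGrp.pt k k ⟶ T, (mtxFn r (τ ≫ iT) : Matrix (Fin n) (Fin n) k) =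
      Matrix.diagonal fun j => ptChr C τ (Multiplicative.ofAdd (a j)) := fun τ => by
    rw [coe_mtxFn, mtxMat, hdiag, Matrix.diagonal_map (map_zero _)]
    rfl
  obtain ⟨b, hb⟩ := exists_pairing_ne_zero
    ((Finset.univ.image fun p : Fin n × Fin n => a p.1 - a p.2).filter (· ≠ 0)) fun v hv => (Finset.mem_filter.1 hv).2
  have hsep : ∀ i j, wt a b i = wt a b j → a i = a j := fun i j h => by
    by_contra hne
    refine hb (a i - a j) (Finset.mem_filter.2 ⟨Finset.mem_image.2 ⟨(i, j), Finset.mem_univ _, rfl⟩,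
      sub_ne_zero.2 hne⟩) ?_
    simp only [TorPts21.pairing, Pi.sub_apply, sub_mul, Finset.sum_sub_distrib]
    exact sub_eq_zero.2 h
  have hsep' : ∀ i j, wt a (-b) i = wt a (-b) j → a i = a j := fun i j h =>
    hsep i j (by rw [wt_neg] at h; exact neg_injective h)
  obtain ⟨Cz, _, cz, hcz, hczc, hczs⟩ :=
    MTRigid29.exists_centralizer (MTRigid29.isMT_of_ft (isMultTypeFT_of_isTorus hT.2.2.1)) ‹_› inferInstance iT
  obtain ⟨hczm, hczci, hczs', hcza⟩ := centralizer_props hT.2.2.1 hcz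
  haveI := hczm
  haveI := hczci
  haveI := hczs'
  haveI := hcza
  haveI := connectedSpace_centralizer_closed hT.2.2.1 hcz
  haveI : Mono cz := Over.mono_of_mono_left cz
  obtain ⟨tC, htC, htm⟩ := exists_lift_centralizer hcz (fun x y => commute_of_chars C x y)
  haveI := htm
  haveI : Mono (tC ≫ cz) := htC.symm ▸ hT.2.1
  haveI : Mono tC := mono_of_mono tC cz
  have hT' : AGF.IsMaxTorus tC := ⟨htm, inferInstance, hT.2.2.1, fun T' _ j _ _ f hT' hf =>
    hT.2.2.2 T' (j ≫ cz) f hT' (by rw [← Category.assoc, hf, htC])⟩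
  obtain ⟨N, hN⟩ := isSolvableGrp_of_central_maxTorus hT' fun x y => (cancel_mono cz).1 (by
    rw [MonObj.mul_comp, MonObj.mul_comp, Category.assoc y, htC]
    exact centralizer_comm hcz x y)
  haveI : Group.IsSolvable (VecGrp.pt k k ⟶ Cz) := (Group.isSolvable_def _).2 ⟨N, hN _⟩
  have hcent : ∀ x : VecGrp.pt k k ⟶ G, (∀ τ : VecGrp.pt k k ⟶ T, x * (τ ≫ iT) = (τ ≫ iT) * x) ↔
      ∃ z : VecGrp.pt k k ⟶ Cz, z ≫ cz = x := fun x => by
    refine ⟨fun hx => ?_, fun ⟨z, hz⟩ τ => hz ▸ centralizer_comm hcz z τ⟩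
    obtain ⟨g, rfl⟩ := exists_gpt x
    obtain ⟨z, rfl⟩ := exists_lift_centralizer_pt hT.2.2.1 hcz g hx
    exact ⟨gpt z, Category.assoc _ _ _⟩
  obtain ⟨Zp, _, jp, hjp, hjpc, hps, hpn, hpsol, hppts⟩ := exists_upperGroup C hdiag' hsep' hcent
  haveI := hjp
  haveI := hjpc
  haveI := hps
  haveI := hpn
  obtain ⟨B, _, iB, f, hB, hf⟩ := BorelFix21.exists_le_borel jp hpsol
  obtain ⟨B₀, _, i₀, hi₀m, hi₀c, hB₀s, hB₀a, hB₀⟩ := exists_attr r hdiag (-b)
  obtain ⟨D, _, iD, hiDm, hiDc, hDs, hDa, hD⟩ := exists_attr r hdiag b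
  haveI := hi₀m; haveI := hi₀c; haveI := hB₀s; haveI := hB₀a
  haveI := hiDm; haveI := hiDc; haveI := hDs; haveI := hDa
  obtain ⟨g, hg⟩ := exists_lift_of_Kpts (K := k) jp i₀ fun x =>
    (hppts _).2 ((blk_iff_blockUp r _ _).1 ((hB₀ _ _).1 ⟨x, rfl⟩))
  -- the multiplication map
  let π : B₀ ⊗ D ⟶ G := (i₀ ⊗ₘ iD) ≫ μ[G]
  have hπ : ∀ {X : Over (Spec (CommRingCat.of k))} (x : X ⟶ B₀ ⊗ D),
      x ≫ π = ((x ≫ fst B₀ D) ≫ i₀) * ((x ≫ snd B₀ D) ≫ iD) := fun x => by
    simp only [π, ← lift_fst_comp_snd_comp i₀ iD, ← Hom.mul_def, MonObj.comp_mul, Category.assoc]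
  haveI : IsReduced G.left := OrbitTop19.isReduced_of_smooth G.hom
  haveI : IsLocallyNoetherian G.left := LocallyOfFiniteType.isLocallyNoetherian G.hom
  haveI : IrreducibleSpace G.left := AbRigid.irreducibleSpace_of_isAlgClosed G
  haveI : CompactSpace G.left := inferInstance
  haveI : LocallyOfFiniteType (B₀ ⊗ D).hom := inferInstanceAs (LocallyOfFiniteType (pullback.fst B₀.hom D.hom ≫ B₀.hom))
  haveI : IsAffine (B₀ ⊗ D).left := inferInstanceAs (IsAffine (pullback B₀.hom D.hom))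
  haveI : LocallyOfFiniteType (π.left ≫ G.hom) := by rw [Over.w π]; infer_instance
  haveI : LocallyOfFiniteType π.left := locallyOfFiniteType_of_comp _ G.hom
  haveI := VarDim.locallyOfFinitePresentation_of_locallyNoetherian π.left
  obtain ⟨W, hW, hWne, hflat⟩ := OrbitTop19.exists_open_flat π.left
  -- a point of the cell in the flat locus
  let h : Γ(G.left, ⊤) := BorelLam21.minorsFn r (wt a b)
  have h1 : InvRing21.img (1 : VecGrp.pt k k ⟶ G) ∈ G.left.basicOpen h :=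
    (BorelFix21.val_ne_zero_iff _ _).1 (BorelLam21.val_one_minorsFn r _)
  obtain ⟨x, hxW, hxh⟩ := BorelFix21.exists_pt_mem ((hW.inter (G.left.basicOpen h).isOpen).isLocallyClosed)
    (nonempty_preirreducible_inter hW (G.left.basicOpen h).isOpen hWne ⟨_, h1⟩)
  have hxh' : ∀ i, ((mtxFn r x : Matrix (Fin n) (Fin n) k).submatrix
      (Subtype.val : upIdx (wt a b) i → Fin n) Subtype.val).det ≠ 0 := fun i => by
    have h2 := (BorelFix21.val_ne_zero_iff _ _).2 hxh
    rw [BorelLam21.val_minorsFn] at h2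
    exact Finset.prod_ne_zero_iff.1 h2 i (Finset.mem_univ _)
  obtain ⟨p, q, hxpq, hp, hq⟩ := BigCell21.exists_factor C r a b hdiag' x hxh'
  obtain ⟨p₀, hp₀⟩ := (hB₀ _ _).2 ((blk_iff_blockUp r _ _).2 hp)
  obtain ⟨q₀, hq₀⟩ := (hD _ _).2 ((blk_iff_blockUp r _ _).2 hq)
  obtain ⟨gp, hgp⟩ := exists_gpt p₀
  obtain ⟨gq, hgq⟩ := exists_gpt q₀
  let α : B₀ ⊗ D ⟶ B₀ ⊗ D :=
    lift ((toUnit _ ≫ gp) * fst B₀ D) (snd B₀ D * (toUnit _ ≫ gq))
  let α' : B₀ ⊗ D ⟶ B₀ ⊗ D :=
    lift ((toUnit _ ≫ gp)⁻¹ * fst B₀ D) (snd B₀ D * (toUnit _ ≫ gq)⁻¹)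
  let β : G ⟶ G := (toUnit G ≫ gp ≫ i₀) * 𝟙 G * (toUnit G ≫ gq ≫ iD)
  let β' : G ⟶ G := (toUnit G ≫ gp ≫ i₀)⁻¹ * 𝟙 G * (toUnit G ≫ gq ≫ iD)⁻¹
  haveI : IsIso α := ⟨α', by ext <;> simp [α, α', MonObj.comp_mul, GrpObj.comp_inv],
    by ext <;> simp [α, α', MonObj.comp_mul, GrpObj.comp_inv]⟩
  haveI : IsIso β := ⟨β', by simp [β, β', MonObj.comp_mul, GrpObj.comp_inv, ← Category.assoc]; group,
    by simp [β, β', MonObj.comp_mul, GrpObj.comp_inv, ← Category.assoc]; group⟩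
  haveI : IsIso α.left := inferInstanceAs (IsIso ((Over.forget _).map α))
  haveI : IsIso β.left := inferInstanceAs (IsIso ((Over.forget _).map β))
  have hαβ : π ≫ β = α ≫ π := by
    have hπ1 := hπ (𝟙 (B₀ ⊗ D))
    rw [Category.id_comp, Category.id_comp, Category.id_comp] at hπ1
    rw [hπ]
    simp only [α, β, MonObj.comp_mul, lift_fst, lift_snd, MonObj.mul_comp, ← Category.assoc, comp_toUnit,
      Category.comp_id]
    rw [hπ1]
    simp only [Category.assoc]
    group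
  let one : VecGrp.pt k k ⟶ B₀ ⊗ D := lift 1 1
  have hone : one ≫ π = 1 := by
    rw [hπ]
    simp [one, MonObj.one_comp]
  let s₀ := one.left (IsLocalRing.closedPoint k)
  have hs₀ : (π.left.stalkMap s₀).hom.Flat := by
    refine OrbitTop19.flat_stalkMap_transfer π.left π.left α.left β.left
      (by rw [← Over.comp_left, hαβ, Over.comp_left]) s₀ (hflat _ ?_)
    have e : (one ≫ α) ≫ π = x := by
      rw [hπ, hxpq, ← hp₀, ← hq₀, ← hgp, ← hgq]
      simp [α, one, MonObj.comp_mul, gpt, MonObj.mul_comp, ← Category.assoc]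
    show π.left (α.left (one.left _)) ∈ W
    have e' := congrArg (fun m : VecGrp.pt k k ⟶ G => m.left (IsLocalRing.closedPoint k)) e
    simp only [Over.comp_left, Scheme.Hom.comp_apply] at e'
    rw [e']
    exact hxW
  let L : (B₀ ⊗ D).left.Opens := ⟨_, FlatH4.isOpen_flatLocus π.left⟩
  let U : Over (Spec (CommRingCat.of k)) := Over.mk (L.ι ≫ (B₀ ⊗ D).hom)
  let j : U ⟶ B₀ ⊗ D := Over.homMk L.ι rfl
  haveI : IsOpenImmersion j.left := inferInstanceAs (IsOpenImmersion L.ι)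
  haveI : Flat (j ≫ π).left := by
    rw [Flat.iff_flat_stalkMap]
    intro u
    show ((L.ι ≫ π.left).stalkMap u).hom.Flat
    rw [Scheme.Hom.stalkMap_comp]
    exact RingHom.Flat.comp u.2 (Flat.stalkMap L.ι u)
  haveI : LocallyOfFinitePresentation (j ≫ π).left := by rw [Over.comp_left]; infer_instance
  have hu : ∃ u : VecGrp.pt k k ⟶ U, u ≫ j = one := by
    have hr : Set.range one.left ⊆ Set.range L.ι := by
      rintro _ ⟨z, rfl⟩
      rw [Scheme.Opens.range_ι, show z = IsLocalRing.closedPoint k from Subsingleton.elim (α := PrimeSpectrum k) _ _]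
      exact hs₀
    refine ⟨Over.homMk (IsOpenImmersion.lift L.ι one.left hr) ?_, Over.OverMorphism.ext (IsOpenImmersion.lift_fac _ _ _)⟩
    show IsOpenImmersion.lift L.ι one.left hr ≫ L.ι ≫ (B₀ ⊗ D).hom = _
    rw [IsOpenImmersion.lift_fac_assoc, Over.w]
  obtain ⟨u, hu⟩ := hu
  refine ⟨n, d, T, inferInstance, iT, inferInstance, C, r, hr, hrc, a, b, hdiag, B, inferInstance, iB, U, j ≫ π,
    hB, fun X y hy => ?_, inferInstance, inferInstance, ⟨u, by rw [← Category.assoc, hu, hone]⟩, fun X y => ?_⟩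
  · obtain ⟨z, hz⟩ := (hB₀ _ _).2 hy
    exact ⟨z ≫ g ≫ f, by rw [Category.assoc, Category.assoc, hf, hg, hz]⟩
  · refine ⟨((y ≫ j) ≫ fst _ _) ≫ g ≫ f, ((y ≫ j) ≫ snd _ _) ≫ iD, ?_, (hD _ _).1 ⟨_, rfl⟩⟩
    rw [← Category.assoc, hπ, Category.assoc _ (g ≫ f), Category.assoc g, hf, hg]

end Groth.Agent.HomSpace15
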