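import Groth.Agent.Lib.AttrBorel21.Main
import Groth.Agent.Lib.OrbitTop19.Base
import Groth.Agent.Lib.TorPts21.BorelNormalizer
import Groth.Agent.Lib.GrpDim20.Basic

/-!
# Homomorphisms killing the torus are constant along contracted curves
-/

set_option autoImplicit false
set_option linter.style.haveILetI false
set_option backward.isDefEq.respectTransparency false
set_option backward.isDefEq.respectTransparency.types false
set_option maxSynthPendingDepth 3
set_option synthInstance.maxHeartbeats 400000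
universe u

open CategoryTheory Limits MonoidalCategory CartesianMonoidalCategory MonObj AlgebraicGeometry
open scoped LaurentPolynomial
open Groth.Agent

noncomputable section

namespace Groth.Agent.HomSpace15

open DiagGL TorPts21 BigCell21 AttrBorel21 InvRing21

attribute [local instance] InvRing21.gamAlg

variable {k : Type u} [Field k]

/-- The map of spectra of an injective algebra homomorphism is injective on functions. -/
theorem appTop_ptMap_injective {A A' : Type u} [CommRing A] [Algebra k A] [CommRing A'] [Algebra k A'] (f : A →ₐ[k] A')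
    (hf : Function.Injective f) : Function.Injective (VecGrp.ptMap (R := k) f).left.appTop := by
  intro p q h
  have e : ∀ p, (Scheme.ΓSpecIso (CommRingCat.of A')).hom ((VecGrp.ptMap (R := k) f).left.appTop p) =
      f ((Scheme.ΓSpecIso (CommRingCat.of A)).hom p) := fun p =>
    ConcreteCategory.congr_hom (Scheme.ΓSpecIso_naturality (CommRingCat.ofHom f.toRingHom)) p
  exact (ConcreteCategory.bijective_of_isIso (Scheme.ΓSpecIso (CommRingCat.of A)).hom).1
    (hf (by rw [← e, ← e, h]))

/-- A point in a ring lifts to a closed subscheme as soon as it does in a bigger ring. -/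
theorem exists_lift_of_injective {J G : Over (Spec (CommRingCat.of k))} [IsAffine G.left] (j : J ⟶ G)
    [IsClosedImmersion j.left] {A A' : Type u} [CommRing A] [Algebra k A] [CommRing A'] [Algebra k A']
    (f : A →ₐ[k] A') (hf : Function.Injective f) (y : VecGrp.pt k A ⟶ G)
    (h : ∃ z, z ≫ j = VecGrp.ptMap f ≫ y) : ∃ z, z ≫ j = y := by
  obtain ⟨z, hz⟩ := h
  haveI : IsAffine (VecGrp.pt k A).left := inferInstanceAs (IsAffine (Spec _))
  haveI : IsAffine (VecGrp.pt k A').left := inferInstanceAs (IsAffine (Spec _))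
  have h1 := (TorPts21.exists_lift_iff_ker j.left (VecGrp.ptMap f ≫ y).left).1
    ⟨z.left, by rw [← Over.comp_left, hz]⟩
  obtain ⟨w, hw⟩ := (TorPts21.exists_lift_iff_ker j.left y.left).2 fun a ha => by
    have h2 := h1 ha
    rw [RingHom.mem_ker] at h2 ⊢
    refine appTop_ptMap_injective f hf ?_
    rw [map_zero]
    exact h2
  exact ⟨Over.homMk w (by rw [← Over.w j, ← Category.assoc, hw, Over.w]), Over.OverMorphism.ext hw⟩

variable {n d : ℕ} {G T : Over (Spec (CommRingCat.of k))} [GrpObj G] [GrpObj T] [IsAffine G.left]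
  {iT : T ⟶ G} [IsMonHom iT] {C : Chars (Fin d → ℤ) T} {r : G ⟶ GLs k n} [IsMonHom r] [IsClosedImmersion r.left]
  {a : Fin n → Fin d → ℤ}
  (hdiag : ∀ (X : Over (Spec (CommRingCat.of k))) (x : X ⟶ T),
    mat ((x ≫ iT) ≫ r) = Matrix.diagonal fun j => C.ch x (Multiplicative.ofAdd (a j))) (b : Fin d → ℤ)

omit [GrpObj G] [IsAffine G.left] [IsMonHom r] [IsMonHom iT] [GrpObj T] in
/-- Matrices of points determine them. -/
theorem pmat_injective {B : Type u} [CommRing B] [Algebra k B] {p q : VecGrp.pt k B ⟶ G}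
    (h : pmat r p = pmat r q) : p = q := by
  haveI : Mono r := Over.mono_of_mono_left r
  refine (cancel_mono r).1 (DiagGL.mat_injective (Matrix.ext fun i j => ?_))
  exact (ConcreteCategory.bijective_of_isIso (Scheme.ΓSpecIso (CommRingCat.of B)).hom).1
    (congrFun (congrFun h i) j)

include hdiag in
/-- A point contracted by the cocharacter spreads to a curve whose limit is centralised. -/
theorem exists_curve {R : Type u} [CommRing R] [Algebra k R] (dG : VecGrp.pt k R ⟶ G)
    (hd : Blk (wt a b) (mat (dG ≫ r))) :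
    ∃ (τ : VecGrp.pt k R[T;T⁻¹] ⟶ T) (yG : VecGrp.pt k (Polynomial R) ⟶ G),
      VecGrp.ptMap ((Polynomial.toLaurentAlg (R := R)).restrictScalars k) ≫ yG =
        (τ ≫ iT) * (VecGrp.ptMap (IsScalarTower.toAlgHom k R R[T;T⁻¹]) ≫ dG) * (τ ≫ iT)⁻¹ ∧
      Blk (wt a (-b)) (mat ((VecGrp.ptMap ((Polynomial.aeval (0 : R)).restrictScalars k) ≫ yG) ≫ r)) := by
  obtain ⟨Φ, hΦ⟩ := exists_grading r hdiag b
  obtain ⟨τ, hτ⟩ := exists_lam C b R
  let v : Γ(G.left, ⊤) →ₐ[k] R := InvRing21.val dG
  let ψ : Γ(G.left, ⊤) →ₐ[k] R[T;T⁻¹] := (AddMonoidAlgebra.mapAlgHom ℤ v).comp Φ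
  have hψ : ∀ o, ψ (gen r o) = AddMonoidAlgebra.single (deg (wt a b) o) (v (gen r o)) := fun o => by
    show AddMonoidAlgebra.mapAlgHom ℤ v (Φ (gen r o)) = _
    rw [hΦ o]
    exact AddMonoidAlgebra.mapAlgHom_single v _ _
  have hv : ∀ i j, v (mat r i j) = pmat r dG i j := fun i j => (pmat_apply r dG i j).symm
  have hv0 : ∀ i j, wt a b i < wt a b j → v (mat r i j) = 0 := fun i j hij => by
    rw [hv, pmat, Matrix.map_apply, hd i j hij, map_zero]
  let tl := (Polynomial.toLaurentAlg (R := R)).restrictScalars k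
  have hrange : ∀ F, ψ F ∈ tl.range := fun F => by
    have hle : (Algebra.adjoin k (Set.range (gen r))) ≤ tl.range.comap ψ := Algebra.adjoin_le (by
      rintro _ ⟨o, rfl⟩
      show ψ (gen r o) ∈ tl.range
      rw [hψ]
      by_cases h : 0 ≤ deg (wt a b) o
      · refine ⟨Polynomial.C (v (gen r o)) * Polynomial.X ^ (deg (wt a b) o).toNat, ?_⟩
        show Polynomial.toLaurent _ = _
        rw [Polynomial.toLaurent_C_mul_X_pow, Int.toNat_of_nonneg h, LaurentPolynomial.single_eq_C_mul_T]
      · rcases o with _ | ⟨i, j⟩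
        · exact absurd le_rfl h
        · have hij : wt a b i < wt a b j := sub_neg.1 (not_le.1 h)
          rw [show gen r (some (i, j)) = mat r i j from rfl, hv0 i j hij, AddMonoidAlgebra.single_zero]
          exact zero_mem _)
    have h2 : F ∈ tl.range.comap ψ := hle (by rw [adjoin_gen r]; trivial)
    exact h2
  let e := AlgEquiv.ofInjective tl (fun p q h => Polynomial.toLaurent_injective h)
  let h : Γ(G.left, ⊤) →ₐ[k] Polynomial R := e.symm.toAlgHom.comp (ψ.codRestrict tl.range hrange)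
  have hh : tl.comp h = ψ := AlgHom.ext fun F => by
    show tl (e.symm ⟨ψ F, hrange F⟩) = ψ F
    have := congrArg Subtype.val (e.apply_symm_apply ⟨ψ F, hrange F⟩)
    exact this
  let yG : VecGrp.pt k (Polynomial R) ⟶ G := VecGrp.ptMap h ≫ InvRing21.uPt G
  have hval : InvRing21.val (VecGrp.ptMap tl ≫ yG) = ψ := by
    rw [InvRing21.val_ptMap, InvRing21.val_ptMap, InvRing21.val_uPt, AlgHom.comp_id, hh]
  refine ⟨τ, yG, ?_, ?_⟩
  · refine pmat_injective (r := r) (Matrix.ext fun i j => ?_)
    have hpos : pmat r (τ ≫ iT) = Matrix.diagonal fun j => AddMonoidAlgebra.single (wt a b j) 1 := by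
      rw [pmat, hdiag, Matrix.diagonal_map (map_zero _)]
      congr 1
      funext j
      exact (hτ (a j)).1
    have hneg : pmat r (τ ≫ iT)⁻¹ = Matrix.diagonal fun j => AddMonoidAlgebra.single (-wt a b j) 1 := by
      rw [pmat, show (τ ≫ iT)⁻¹ = τ⁻¹ ≫ iT from (GrpObj.inv_comp _ _).symm, hdiag, Matrix.diagonal_map (map_zero _)]
      congr 1
      funext j
      exact (hτ (a j)).2
    rw [pmat_mul, pmat_mul, hpos, hneg, Matrix.mul_diagonal, Matrix.diagonal_mul, pmat_apply, pmat_apply, hval,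
      InvRing21.val_ptMap]
    rw [show mat r i j = gen r (some (i, j)) from rfl, hψ]
    show AddMonoidAlgebra.single _ (v _) = _ * IsScalarTower.toAlgHom k R R[T;T⁻¹] (v _) * _
    generalize v (gen r (some (i, j))) = c
    rw [show IsScalarTower.toAlgHom k R R[T;T⁻¹] c = AddMonoidAlgebra.single 0 c by simp,
      AddMonoidAlgebra.single_mul_single, AddMonoidAlgebra.single_mul_single, _root_.one_mul, _root_.mul_one,
      add_zero, ← sub_eq_add_neg]
    rfl
  · intro i j hij
    have hne : wt a b j < wt a b i := by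
      rw [wt_neg] at hij
      exact neg_lt_neg_iff.1 hij
    refine (ConcreteCategory.bijective_of_isIso (Scheme.ΓSpecIso (CommRingCat.of R)).hom).1 ?_
    rw [map_zero]
    show pmat r (VecGrp.ptMap ((Polynomial.aeval (0 : R)).restrictScalars k) ≫ yG) i j = 0
    rw [pmat_apply, InvRing21.val_ptMap]
    show Polynomial.aeval (0 : R) (InvRing21.val yG (mat r i j)) = 0
    have h1 : Polynomial.toLaurent (InvRing21.val yG (mat r i j)) =
        AddMonoidAlgebra.single (wt a b i - wt a b j) (v (mat r i j)) := by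
      refine Eq.trans ?_ (hψ (some (i, j)))
      rw [← hval, InvRing21.val_ptMap tl yG]
      rfl
    have h2 : InvRing21.val yG (mat r i j) =
        Polynomial.C (v (mat r i j)) * Polynomial.X ^ (wt a b i - wt a b j).toNat := by
      refine Polynomial.toLaurent_injective (h1.trans ?_)
      rw [Polynomial.toLaurent_C_mul_X_pow, Int.toNat_of_nonneg (by omega), LaurentPolynomial.single_eq_C_mul_T]
    rw [h2, map_mul, map_pow, Polynomial.aeval_X, zero_pow (by omega), MulZeroClass.mul_zero]

variable {P M : Over (Spec (CommRingCat.of k))} [GrpObj P] [GrpObj M] [IsSeparated M.hom] (iP : P ⟶ G) [IsMonHom iP]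
  [IsClosedImmersion iP.left] (φ : P ⟶ M) [IsMonHom φ]

include hdiag in
/-- A homomorphism trivial on the torus and on the centralised points is trivial on the contracted points. -/
theorem comp_eq_one_of_blk
    (hT : ∀ (X : Over (Spec (CommRingCat.of k))) (t : X ⟶ T), ∃ p : X ⟶ P, p ≫ iP = t ≫ iT ∧ p ≫ φ = 1)
    (h0 : ∀ (X : Over (Spec (CommRingCat.of k))) (x : X ⟶ G), Blk (wt a (-b)) (mat (x ≫ r)) →
      ∃ p : X ⟶ P, p ≫ iP = x ∧ p ≫ φ = 1)
    {R : Type u} [CommRing R] [Algebra k R] (dp : VecGrp.pt k R ⟶ P)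
    (hd : Blk (wt a b) (mat ((dp ≫ iP) ≫ r))) : dp ≫ φ = 1 := by
  obtain ⟨τ, yG, hy, hy0⟩ := exists_curve hdiag b (dp ≫ iP) hd
  let K := pullback φ η[M]
  let iK : K ⟶ P := pullback.fst φ η[M]
  have hk : IsPullback iK (pullback.snd φ η[M]) φ η[M] := IsPullback.of_hasPullback _ _
  haveI : IsClosedImmersion η[M].left := isClosedImmersion_of_comp_eq_id M.hom _ (Over.w η[M])
  haveI : IsClosedImmersion iK.left :=
    MorphismProperty.of_isPullback (hk.map (Over.forget _)).flip ‹IsClosedImmersion η[M].left›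
  haveI : IsClosedImmersion (iK ≫ iP).left := by rw [Over.comp_left]; infer_instance
  let cst : R →ₐ[k] Polynomial R := IsScalarTower.toAlgHom k R (Polynomial R)
  let tl := (Polynomial.toLaurentAlg (R := R)).restrictScalars k
  let incl := IsScalarTower.toAlgHom k R R[T;T⁻¹]
  let ev0 : Polynomial R →ₐ[k] R := (Polynomial.aeval (0 : R)).restrictScalars k
  have ec : tl.comp cst = incl := AlgHom.ext fun c => by simp [tl, cst, incl]
  have ee : ev0.comp cst = AlgHom.id k R := AlgHom.ext fun c => by simp [ev0, cst]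
  let Y : VecGrp.pt k (Polynomial R) ⟶ G := yG * (VecGrp.ptMap cst ≫ dp ≫ iP)⁻¹
  obtain ⟨tp, htp, htp'⟩ := hT _ τ
  have hY : VecGrp.ptMap tl ≫ Y = (tp * (VecGrp.ptMap incl ≫ dp) * tp⁻¹ * (VecGrp.ptMap incl ≫ dp)⁻¹) ≫ iP := by
    simp only [Y, MonObj.comp_mul, GrpObj.comp_inv, MonObj.mul_comp, GrpObj.inv_comp, htp, Category.assoc]
    rw [← Category.assoc (VecGrp.ptMap tl), InvRing21.ptMap_comp, ec, hy]
  have hq : (tp * (VecGrp.ptMap incl ≫ dp) * tp⁻¹ * (VecGrp.ptMap incl ≫ dp)⁻¹) ≫ φ = 1 := by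
    simp only [MonObj.mul_comp, GrpObj.inv_comp, htp', Category.assoc]
    group
  obtain ⟨z, hz, -⟩ := hk.exists_lift _ (toUnit _) (by rw [hq, Hom.one_def])
  obtain ⟨w, hw⟩ := exists_lift_of_injective (iK ≫ iP) tl (fun p q h => Polynomial.toLaurent_injective h) Y
    ⟨z, by rw [← Category.assoc, hz, hY]⟩
  have hwK : (w ≫ iK) ≫ φ = 1 := by
    rw [Category.assoc, hk.w, ← Category.assoc, toUnit_unique (w ≫ pullback.snd φ η[M]) (toUnit _), Hom.one_def]
  obtain ⟨p0, hp0, hp0'⟩ := h0 _ _ hy0
  haveI : Mono iP := Over.mono_of_mono_left iP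
  have e : VecGrp.ptMap ev0 ≫ w ≫ iK = p0 * dp⁻¹ := by
    refine (cancel_mono iP).1 ?_
    rw [Category.assoc, Category.assoc, hw, MonObj.comp_mul, GrpObj.comp_inv, ← Category.assoc (VecGrp.ptMap ev0)
      (VecGrp.ptMap cst), InvRing21.ptMap_comp, ee, MonObj.mul_comp, GrpObj.inv_comp, hp0]
    rw [show VecGrp.ptMap (R := k) (AlgHom.id k R) = 𝟙 _ by
      refine Over.OverMorphism.ext ?_
      exact Spec.map_id _, Category.id_comp]
  have h1 : (p0 * dp⁻¹) ≫ φ = 1 := by
    rw [← e, Category.assoc, hwK, MonObj.comp_one]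
  rwa [MonObj.mul_comp, GrpObj.inv_comp, hp0', _root_.one_mul, inv_eq_one] at h1

end Groth.Agent.HomSpace15
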