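import Groth.Agent.Lib.HomSpace15.Product
import Groth.Agent.Lib.TorPts21.UnipBorel

/-!
# The structure of complete homogeneous varieties
-/

set_option autoImplicit false
set_option linter.style.haveILetI false
set_option linter.unusedSimpArgs false
set_option backward.isDefEq.respectTransparency false
set_option backward.isDefEq.respectTransparency.types false
set_option maxSynthPendingDepth 3
set_option synthInstance.maxHeartbeats 400000
universe u

open CategoryTheory Limits MonoidalCategory CartesianMonoidalCategory MonObj AlgebraicGeometry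
open Groth.Agent

noncomputable section

namespace Groth.Agent.HomSpace15

variable {k : Type u} [Field k] [IsAlgClosed k]

/-- A monomorphism which is trivial has trivial source. -/
theorem isIso_hom_of_eq_one {U G : Over (Spec (CommRingCat.of k))} [GrpObj U] [GrpObj G] (u : U ⟶ G) [IsMonHom u]
    [Mono u] (h : u = 1) : IsIso U.hom := by
  have e : (𝟙 U : U ⟶ U) = 1 := (cancel_mono u).1 (by rw [Category.id_comp, MonObj.one_comp, h])
  rw [Hom.one_def] at e
  haveI : IsIso (toUnit U) := ⟨η[U], e.symm, toUnit_unique _ _⟩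
  exact inferInstanceAs (IsIso ((Over.forget _).map (toUnit U)))

variable (G X : Over (Spec (CommRingCat.of k))) [GrpObj G] [Smooth G.hom] [QuasiCompact G.hom]
  [ConnectedSpace ↥G.left] [IsProper X.hom] [IsIntegral X.left]

set_option maxHeartbeats 6400000 in
/-- **The structure of a complete homogeneous variety.** -/
theorem structure_thm
    (a : AlgGrp.Action G X) (htrans : Surjective (lift a.act (snd G X)).left)
    (hfaith : ∀ (S : Over (Spec (CommRingCat.of k))) (g : S ⟶ G),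
      (∀ (S' : Over (Spec (CommRingCat.of k))) (s : S' ⟶ S) (x : S' ⟶ X), lift (s ≫ g) x ≫ a.act = x) → g = 1)
    (N : Over (Spec (CommRingCat.of k))) [GrpObj N] (i : N ⟶ G) [IsMonHom i] [IsClosedImmersion i.left]
    [Smooth N.hom] [ConnectedSpace ↥N.left] [IsAffine N.left] (hN : AlgGrp.IsNormalHom i)
    (hNmax : ∀ (N' : Over (Spec (CommRingCat.of k))) [GrpObj N'] (i' : N' ⟶ G) [IsMonHom i'] [IsClosedImmersion i'.left]
      [Smooth N'.hom] [ConnectedSpace ↥N'.left] [IsAffine N'.left], AlgGrp.IsNormalHom i' → ∃ f : N' ⟶ N, f ≫ i = i')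
    (M : Over (Spec (CommRingCat.of k))) [GrpObj M] (j : M ⟶ G) [IsMonHom j] [IsClosedImmersion j.left]
    (hM : Function.Bijective ((Scheme.ΓSpecIso (CommRingCat.of k)).inv ≫ M.hom.appTop).hom)
    (hMmax : ∀ (M' : Over (Spec (CommRingCat.of k))) [GrpObj M'] (j' : M' ⟶ G) [IsMonHom j'] [IsClosedImmersion j'.left],
      Function.Bijective ((Scheme.ΓSpecIso (CommRingCat.of k)).inv ≫ M'.hom.appTop).hom → ∃ f : M' ⟶ M, f ≫ j = j') :
    IsIso ((j ⊗ₘ i) ≫ μ[G]) ∧ IsProper M.hom ∧ Red.IsSemisimpleOver k N ∧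
      (∀ (Z : Over (Spec (CommRingCat.of k))) [GrpObj Z] (z : Z ⟶ N), Red.IsCentre z → IsIso Z.hom) ∧
      ∃ (Y : Over (Spec (CommRingCat.of k))) (b : AlgGrp.Action N Y) (e : X ≅ M ⊗ Y),
        ∀ (S : Over (Spec (CommRingCat.of k))) (m' : S ⟶ M) (n : S ⟶ N) (x : S ⟶ X),
          lift ((m' ≫ j) * (n ≫ i)) x ≫ a.act ≫ e.hom =
            lift ((x ≫ e.hom ≫ fst M Y) * m') (lift n (x ≫ e.hom ≫ snd M Y) ≫ b.act) := by
  haveI : QuasiSeparated G.hom := AlgGrpBasic19.quasiSeparatedSpace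
  haveI : IsReduced G.left := OrbitTop19.isReduced_of_smooth G.hom
  haveI : IsSeparated G.hom := AbRigid.isSeparated_of_grpObj G
  haveI : IsLocallyNoetherian G.left := LocallyOfFiniteType.isLocallyNoetherian G.hom
  haveI : Mono i := Over.mono_of_mono_left i
  haveI : Mono j := Over.mono_of_mono_left j
  haveI : LocallyOfFiniteType M.hom := by rw [← Over.w j]; infer_instance
  haveI : QuasiCompact M.hom := by rw [← Over.w j]; infer_instance
  obtain ⟨A, _, q, hqm, hqf, hqs, hqq, hker, hAp, hAs, hAn⟩ := AffPart25.exists_chevalley G N i hN hNmax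
  haveI := hqm; haveI := hqf; haveI := hqs; haveI := hqq; haveI := hAp; haveI := hAs; haveI := hAn
  -- `M` is central
  have hc : ∀ {T : Over (Spec (CommRingCat.of k))} (m : T ⟶ M) (g : T ⟶ G), (m ≫ j) * g = g * (m ≫ j) :=
    fun {T} m g => by simpa using Groth.Agent.S7996.result k M G hM j T m T (𝟙 T) g
  have hcM : ∀ {T : Over (Spec (CommRingCat.of k))} (m m' : T ⟶ M), m * m' = m' * m := fun m m' =>
    (cancel_mono j).1 (by rw [MonObj.mul_comp, MonObj.mul_comp, hc])
  have hsurj : Surjective ((i ⊗ₘ j) ≫ μ[G]).left := (Groth.Agent.S14582.result k G N i hN A q hker M j hM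
    fun M' _ _ _ j' _ _ h => hMmax M' j' h).1
  let ν : N ⊗ M ⟶ G := (i ⊗ₘ j) ≫ μ[G]
  haveI : Surjective ν.left := hsurj
  have hν : ∀ {T : Over (Spec (CommRingCat.of k))} (x : T ⟶ N ⊗ M),
      x ≫ ν = ((x ≫ fst N M) ≫ i) * ((x ≫ snd N M) ≫ j) := fun x => by
    simp only [ν, ← lift_fst_comp_snd_comp i j, ← Hom.mul_def, MonObj.comp_mul, Category.assoc]
  haveI : IsMonHom ν := TorsorSch25.isMonHom_of_points ν fun T x y => by
    rw [hν, hν, hν, MonObj.mul_comp x y (fst N M), MonObj.mul_comp x y (snd N M), MonObj.mul_comp, MonObj.mul_comp]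
    exact Commute.mul_mul_mul_comm (hc (x ≫ snd N M) ((y ≫ fst N M) ≫ i)).symm _ _
  haveI : LocallyOfFiniteType (N ⊗ M).hom := inferInstanceAs (LocallyOfFiniteType (pullback.fst N.hom M.hom ≫ N.hom))
  haveI : QuasiCompact (N ⊗ M).hom := inferInstanceAs (QuasiCompact (pullback.fst N.hom M.hom ≫ N.hom))
  haveI : Flat ν.left := AbRigid.flat_of_surjective_of_isReduced (N ⊗ M) G ν
  haveI : QuasiCompact ν.left := AlgGrpBasic19.quasiCompact_left ν
  haveI : Epi ν := AlgGrpBasic19.epi_of_cover ν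
  -- a fixed point of a Borel subgroup
  obtain ⟨B, _, iB, hB, hrig⟩ := exists_borel_rigid (G := N)
  obtain ⟨hBm, hBc, hBs, hBn, hBsol, -⟩ := id hB
  haveI := hBm; haveI := hBc; haveI := hBs; haveI := hBn
  haveI : IsAffine B.left := isAffine_of_isAffineHom iB.left
  haveI : Nonempty X.left := ⟨Classical.arbitrary _⟩
  haveI : Group.IsSolvable (VecGrp.pt k k ⟶ B) := by
    obtain ⟨n, hn⟩ := hBsol
    exact (Group.isSolvable_def _).2 ⟨n, hn _⟩
  let aB : AlgGrp.Action B X := {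
    act := lift (fst B X ≫ iB ≫ i) (snd B X) ≫ a.act
    one_act := by
      have h : η[B] ≫ iB ≫ i = η[G] := by rw [← Category.assoc, IsMonHom.one_hom, IsMonHom.one_hom]
      rw [← Category.assoc, show (η[B] ▷ X) ≫ lift (fst B X ≫ iB ≫ i) (snd B X) = η[G] ▷ X from
        CartesianMonoidalCategory.hom_ext _ _ (by simp [h]) (by simp), a.one_act]
    mul_act := by
      have e1 : (μ[B] ▷ X) ≫ lift (fst B X ≫ iB ≫ i) (snd B X) =
          lift (fst (B ⊗ B) X ≫ μ[B] ≫ iB ≫ i) (snd (B ⊗ B) X) :=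
        CartesianMonoidalCategory.hom_ext _ _ (by simp) (by simp)
      have e2 : μ[B] ≫ iB ≫ i = (fst B B ≫ iB ≫ i) * (snd B B ≫ iB ≫ i) := by
        rw [← MonObj.mul_comp, Hom.mul_def, lift_fst_snd, Category.id_comp]
      rw [← Category.assoc, e1, e2, MonObj.comp_mul, AlgGrpBasic19.act_mul]
      simp only [← Category.assoc, comp_lift]
      congr 1
      refine CartesianMonoidalCategory.hom_ext _ _ (by simp) ?_
      simp only [lift_snd, Category.assoc, whiskerLeft_snd, associator_hom_snd_fst, comp_lift]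
      simp only [← Category.assoc, comp_lift]
      congr 1
      ext <;> simp }
  obtain ⟨x₀, hx₀⟩ := BorelFix21.exists_point_fixed (G := B) aB
  have hfixB : ∀ (T : Over (Spec (CommRingCat.of k))) (b : T ⟶ B),
      sm a (b ≫ iB ≫ i) (toUnit T ≫ x₀) = toUnit T ≫ x₀ := fun T b => by
    refine Eq.trans ?_ (BorelFix21.isFixedPt_of_points aB x₀ hx₀ T b)
    show _ = lift b (toUnit T ≫ x₀) ≫ lift (fst B X ≫ iB ≫ i) (snd B X) ≫ a.act
    rw [← Category.assoc (lift b _), comp_lift, lift_fst_assoc, lift_snd]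
  obtain ⟨hff, hfs⟩ := flat_surjective_of_trans a htrans x₀
  -- a central point fixing the base point is trivial
  have hcentral : ∀ {S : Over (Spec (CommRingCat.of k))} (g : S ⟶ G),
      (∀ (W : Over (Spec (CommRingCat.of k))) (s : W ⟶ S) (h : W ⟶ G),
        sm a (h⁻¹ * (s ≫ g) * h) (toUnit W ≫ x₀) = toUnit W ≫ x₀) → g = 1 := fun {S} g hg => by
    refine hfaith S g fun S' s x => ?_
    obtain ⟨W, p, h, hp, hpx⟩ := exists_cover_orbit a hff hfs x
    refine (cancel_epi p).1 ?_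
    show p ≫ sm a (s ≫ g) x = p ≫ x
    rw [comp_sm, hpx, ← sm_mul, ← Category.assoc]
    conv_lhs => rw [show ((p ≫ s) ≫ g) * h = h * (h⁻¹ * ((p ≫ s) ≫ g) * h) by group]
    rw [sm_mul, hg]
  -- a point of `N` whose conjugates fix the base point is trivial
  have hNtriv : ∀ {S : Over (Spec (CommRingCat.of k))} (g : S ⟶ N),
      (∀ (W : Over (Spec (CommRingCat.of k))) (s : W ⟶ S) (h : W ⟶ N), ∃ b : W ⟶ B, b ≫ iB = h⁻¹ * (s ≫ g) * h) →
      g = 1 := fun {S} g hg => by
    refine (cancel_mono i).1 ((hcentral (g ≫ i) fun W s h => ?_).trans (MonObj.one_comp i).symm)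
    have hsq : IsPullback (pullback.fst h ν) (pullback.snd h ν) h ν := IsPullback.of_hasPullback _ _
    let p := pullback.fst h ν
    let v := pullback.snd h ν
    haveI : Flat p.left := MorphismProperty.of_isPullback (hsq.map (Over.forget _)).flip ‹Flat ν.left›
    haveI : Surjective p.left := MorphismProperty.of_isPullback (hsq.map (Over.forget _)).flip hsurj
    haveI : QuasiCompact p.left :=
      MorphismProperty.of_isPullback (hsq.map (Over.forget _)).flip ‹QuasiCompact ν.left›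
    haveI : Epi p := AlgGrpBasic19.epi_of_cover p
    obtain ⟨b, hb⟩ := hg _ (p ≫ s) (v ≫ fst N M)
    have e : p ≫ h = ((v ≫ fst N M) ≫ i) * ((v ≫ snd N M) ≫ j) := hsq.w.trans (hν _)
    refine (cancel_epi p).1 ?_
    have e2 : p ≫ (h⁻¹ * (s ≫ g ≫ i) * h) = b ≫ iB ≫ i := by
      rw [MonObj.comp_mul, MonObj.comp_mul, GrpObj.comp_inv, e, ← Category.assoc b, hb, MonObj.mul_comp,
        MonObj.mul_comp, GrpObj.inv_comp, Category.assoc (p ≫ s), Category.assoc p]
      have hcomm := hc (v ≫ snd N M) ((((v ≫ fst N M) ≫ i)⁻¹ * (p ≫ s ≫ g ≫ i) * ((v ≫ fst N M) ≫ i)))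
      generalize ((v ≫ fst N M) ≫ i) = n at hcomm ⊢
      generalize ((v ≫ snd N M) ≫ j) = m at hcomm ⊢
      generalize (p ≫ s ≫ g ≫ i) = c at hcomm ⊢
      calc (n * m)⁻¹ * c * (n * m) = m⁻¹ * ((n⁻¹ * c * n) * m) := by group
        _ = n⁻¹ * c * n := by rw [← hcomm, inv_mul_cancel_left]
    rw [comp_sm, e2, ← Category.assoc p, comp_toUnit]
    exact hfixB _ b
  -- trivial intersection
  have hNM : ∀ {T : Over (Spec (CommRingCat.of k))} (n : T ⟶ N) (m : T ⟶ M), n ≫ i = m ≫ j → n = 1 ∧ m = 1 := by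
    intro T n m e
    have hn : n = 1 := hNtriv n fun W s h => by
      have hcn : ∀ (W : Over (Spec (CommRingCat.of k))) (s : W ⟶ T) (h : W ⟶ N), (s ≫ n) * h = h * (s ≫ n) :=
        fun W s h => (cancel_mono i).1 (by
          rw [MonObj.mul_comp, MonObj.mul_comp, Category.assoc, e, ← Category.assoc]
          exact hc _ _)
      obtain ⟨f, hf⟩ := TorPts21.exists_lift_of_central (TorPts21.isBorel_of_isBorelOver hB) n hcn
      exact ⟨s ≫ f, by rw [Category.assoc, hf, _root_.mul_assoc, hcn W s h, inv_mul_cancel_left]⟩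
    refine ⟨hn, (cancel_mono j).1 ?_⟩
    rw [← e, hn, MonObj.one_comp, MonObj.one_comp]
  have hsep : ∀ {T : Over (Spec (CommRingCat.of k))} (n n' : T ⟶ N) (m m' : T ⟶ M),
      (n ≫ i) * (m ≫ j) = (n' ≫ i) * (m' ≫ j) → n = n' ∧ m = m' := by
    intro T n n' m m' e
    obtain ⟨h1, h2⟩ := hNM (n'⁻¹ * n) (m' * m⁻¹) (by
      rw [MonObj.mul_comp, MonObj.mul_comp, GrpObj.inv_comp, GrpObj.inv_comp,
        show (n ≫ i) = (n' ≫ i) * (m' ≫ j) * (m ≫ j)⁻¹ by rw [← e]; group]
      group)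
    exact ⟨(inv_mul_eq_one.1 h1).symm, (mul_inv_eq_one.1 h2).symm⟩
  haveI : Mono ν := ⟨fun x y e => by
    rw [hν, hν] at e
    obtain ⟨h1, h2⟩ := hsep _ _ _ _ e
    exact CartesianMonoidalCategory.hom_ext _ _ h1 h2⟩
  haveI : Mono ν.left := inferInstance
  haveI : IsIso ν.left := Flat.isIso_of_surjective_of_mono ν.left
  haveI : IsIso ((Over.forget _).map ν) := ‹IsIso ν.left›
  haveI : IsIso ν := isIso_of_reflects_iso _ (Over.forget _)
  have hiso : IsIso ((j ⊗ₘ i) ≫ μ[G]) := by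
    have e : (j ⊗ₘ i) ≫ μ[G] = (β_ M N).hom ≫ ν := by
      rw [hν, ← lift_fst_comp_snd_comp j i, ← Hom.mul_def, braiding_hom_fst, braiding_hom_snd]
      exact hc _ _
    rw [e]
    infer_instance
  -- the projections
  let pN : G ⟶ N := inv ν ≫ fst N M
  let pM : G ⟶ M := inv ν ≫ snd N M
  have hdec : ∀ {T : Over (Spec (CommRingCat.of k))} (g : T ⟶ G), g = ((g ≫ pN) ≫ i) * ((g ≫ pM) ≫ j) := fun g => by
    have := hν (g ≫ inv ν)
    simpa [pN, pM] using this
  have hproj : ∀ {T : Over (Spec (CommRingCat.of k))} (n : T ⟶ N) (m : T ⟶ M),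
      ((n ≫ i) * (m ≫ j)) ≫ pN = n ∧ ((n ≫ i) * (m ≫ j)) ≫ pM = m := fun n m => hsep _ _ _ _ (hdec _).symm
  have hpM : ∀ {T : Over (Spec (CommRingCat.of k))} (g g' : T ⟶ G), (g * g') ≫ pM = (g ≫ pM) * (g' ≫ pM) := by
    intro T g g'
    refine (hsep _ ((g ≫ pN) * (g' ≫ pN)) _ _ ((hdec (g * g')).symm.trans ?_)).2
    conv_lhs => rw [hdec g, hdec g']
    rw [MonObj.mul_comp, MonObj.mul_comp]
    exact Commute.mul_mul_mul_comm (hc (g ≫ pM) ((g' ≫ pN) ≫ i)) _ _
  have hpN : ∀ {T : Over (Spec (CommRingCat.of k))} (g g' : T ⟶ G), (g * g') ≫ pN = (g ≫ pN) * (g' ≫ pN) := by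
    intro T g g'
    refine (hsep _ _ _ ((g ≫ pM) * (g' ≫ pM)) ((hdec (g * g')).symm.trans ?_)).1
    conv_lhs => rw [hdec g, hdec g']
    rw [MonObj.mul_comp, MonObj.mul_comp]
    exact Commute.mul_mul_mul_comm (hc (g ≫ pM) ((g' ≫ pN) ≫ i)) _ _
  haveI : IsMonHom pM := TorsorSch25.isMonHom_of_points pM fun T g g' => hpM g g'
  haveI : IsMonHom pN := TorsorSch25.isMonHom_of_points pN fun T g g' => hpN g g'
  -- properness of `M`
  have hiq : i ≫ q = 1 := hker.w.trans Hom.one_def.symm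
  let r : M ⟶ A := j ≫ q
  haveI : Surjective r.left := by
    have e : ν ≫ q = snd N M ≫ r := by
      have := hν (𝟙 (N ⊗ M))
      rw [Category.id_comp] at this
      rw [this, MonObj.mul_comp, Category.assoc _ i, hiq, MonObj.comp_one, _root_.one_mul, Category.id_comp,
        Category.assoc]
    haveI : Surjective ((snd N M).left ≫ r.left) := by rw [← Over.comp_left, ← e, Over.comp_left]; infer_instance
    exact Surjective.of_comp (snd N M).left r.left
  haveI : IsReduced A.left := OrbitTop19.isReduced_of_smooth A.hom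
  haveI : Mono r := ⟨fun {T} x y e => by
    have h1 : ((x * y⁻¹) ≫ j) ≫ q = toUnit T ≫ η[A] := by
      rw [Category.assoc]
      show (x * y⁻¹) ≫ r = _
      rw [MonObj.mul_comp, GrpObj.inv_comp, e, mul_inv_cancel, Hom.one_def]
    obtain ⟨w, hw, -⟩ := hker.exists_lift _ (toUnit T) h1
    exact mul_inv_eq_one.1 (hNM w (x * y⁻¹) hw).2⟩
  haveI : QuasiCompact r.left := AlgGrpBasic19.quasiCompact_left r
  haveI : Flat r.left := AbRigid.flat_of_surjective_of_isReduced M A r
  haveI : IsIso r.left := Flat.isIso_of_surjective_of_mono r.left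
  haveI hMp : IsProper M.hom := by rw [← Over.w r]; infer_instance
  -- semisimplicity
  have hsub : ∀ (U : Over (Spec (CommRingCat.of k))) [GrpObj U] (u : U ⟶ N) [IsMonHom u],
      IsClosedImmersion u.left → Smooth U.hom → ConnectedSpace U.left → AlgGrp.IsNormalHom u →
      Red.IsSolvableGrp U → IsIso U.hom := by
    intro U _ u _ hcl hsm hcn hnor hsol
    haveI := hcl; haveI := hsm; haveI := hcn
    haveI : Mono u := Over.mono_of_mono_left u
    obtain ⟨f, hf⟩ := TorPts21.exists_lift_of_normal_solvable u hsol hnor iB hB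
    refine isIso_hom_of_eq_one u (hNtriv u fun W s h => ?_)
    obtain ⟨u', hu'⟩ := hnor W h⁻¹ s
    rw [_root_.inv_inv] at hu'
    exact ⟨u' ≫ f, by rw [Category.assoc, hf, hu']⟩
  have hss : Red.IsSemisimpleOver k N := by
    refine ⟨⟨inferInstance, inferInstance, inferInstance, fun U _ u _ hcl hsm hcn hnor hns => ?_⟩,
      fun U _ u _ hcl hnor htor => ?_⟩
    · haveI := hcl; haveI := hsm; haveI := hcn
      haveI : IsAffine U.left := isAffine_of_isAffineHom u.left
      exact hsub U u hcl hsm hcn hnor (TorPts21.isSolvableGrp_of_hasNoSubtorus U hns)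
    · obtain ⟨-, hsm, hcn, hsol⟩ := TorPts21.props_of_isTorus htor
      exact hsub U u hcl hsm hcn hnor hsol
  have hZ : ∀ (Z : Over (Spec (CommRingCat.of k))) [GrpObj Z] (z : Z ⟶ N), Red.IsCentre z → IsIso Z.hom := by
    intro Z _ z hz
    haveI := hz.1
    haveI := hz.2.1
    have hcz : ∀ (W : Over (Spec (CommRingCat.of k))) (s : W ⟶ Z) (h : W ⟶ N), (s ≫ z) * h = h * (s ≫ z) :=
      fun W s h => by simpa using (hz.2.2 Z z).1 ⟨𝟙 Z, Category.id_comp z⟩ W s h
    obtain ⟨f, hf⟩ := TorPts21.exists_lift_of_central (TorPts21.isBorel_of_isBorelOver hB) z hcz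
    exact isIso_hom_of_eq_one z (hNtriv z fun W s h =>
      ⟨s ≫ f, by rw [Category.assoc, hf, _root_.mul_assoc, hcz W s h, inv_mul_cancel_left]⟩)
  -- the stabiliser lies in `N`
  obtain ⟨Go, _, io, hiom, hioc, hGo⟩ := BorelFix21.exists_stabilizer a x₀
  haveI := hiom; haveI := hioc
  haveI : Mono io := Over.mono_of_mono_left io
  have hfix : ∀ {T : Over (Spec (CommRingCat.of k))} (s : T ⟶ Go),
      sm a (s ≫ io) (toUnit T ≫ x₀) = toUnit T ≫ x₀ := fun {T} s => by
    show lift (s ≫ io) (toUnit T ≫ x₀) ≫ a.act = _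
    rw [← AlgGrp.Action.comp_orbitMap, Category.assoc, hGo.w, ← Category.assoc, comp_toUnit]
  let sN : Go ⟶ N := io ≫ pN
  haveI : Mono sN := ⟨fun {T} x y e => by
    have h1 : ((x * y⁻¹) ≫ io) ≫ pN = 1 := by
      rw [Category.assoc]
      show (x * y⁻¹) ≫ sN = 1
      rw [MonObj.mul_comp, GrpObj.inv_comp, e, mul_inv_cancel]
    have h2 : (x * y⁻¹) ≫ io = ((x * y⁻¹) ≫ io ≫ pM) ≫ j := by
      conv_lhs => rw [hdec ((x * y⁻¹) ≫ io)]
      rw [h1, MonObj.one_comp, _root_.one_mul, Category.assoc (x * y⁻¹)]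
    have h3 : (x * y⁻¹) ≫ io = 1 := hcentral _ fun W s h => by
      rw [h2, ← Category.assoc, _root_.mul_assoc, hc, inv_mul_cancel_left, Category.assoc, ← h2, ← Category.assoc]
      exact hfix _
    exact mul_inv_eq_one.1 ((cancel_mono io).1 (h3.trans (MonObj.one_comp io).symm))⟩
  haveI : IsProper (fst N M).left := by
    haveI := hMp
    exact inferInstanceAs (IsProper (pullback.fst N.hom M.hom))
  haveI : IsIso (inv ν).left := inferInstanceAs (IsIso ((Over.forget _).map (inv ν)))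
  haveI : IsProper pN.left := by
    show IsProper (inv ν ≫ fst N M).left
    rw [Over.comp_left]; infer_instance
  haveI : IsProper sN.left := by
    show IsProper (io ≫ pN).left
    rw [Over.comp_left]; infer_instance
  haveI : IsClosedImmersion sN.left := (IsClosedImmersion.iff_isProper_and_mono _).2 ⟨inferInstance, inferInstance⟩
  haveI : IsSeparated M.hom := inferInstance
  have hbase : (iB ≫ i) ≫ a.orbitMap x₀ = toUnit B ≫ x₀ := by
    rw [AlgGrp.Action.comp_orbitMap, ← Category.id_comp (iB ≫ i)]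
    exact hfixB B (𝟙 B)
  obtain ⟨bG, hbG, -⟩ := hGo.exists_lift (iB ≫ i) (toUnit B) hbase
  have hbG2 : ((iB ≫ i) ≫ pN) = iB ∧ ((iB ≫ i) ≫ pM) = 1 := by
    have := hproj iB (1 : B ⟶ M)
    rwa [MonObj.one_comp, _root_.mul_one] at this
  have hφ : io ≫ pM = 1 := hrig Go sN M (io ≫ pM) bG
    (by show bG ≫ io ≫ pN = iB; rw [← Category.assoc, hbG, hbG2.1])
    (by rw [← Category.assoc, hbG, hbG2.2])
  -- the projection to `M`
  haveI := hff; haveI := hfs
  haveI : QuasiCompact (a.orbitMap x₀).left := AlgGrpBasic19.quasiCompact_left _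
  haveI : Epi (a.orbitMap x₀) := AlgGrpBasic19.epi_of_cover _
  obtain ⟨ψ, hψ⟩ := AlgGrpBasic19.exists_desc (a.orbitMap x₀) pM fun T g g' e => by
    have hfix' : (g⁻¹ * g') ≫ a.orbitMap x₀ = toUnit T ≫ x₀ := by
      rw [AlgGrp.Action.comp_orbitMap, AlgGrp.Action.comp_orbitMap] at e
      rw [AlgGrp.Action.comp_orbitMap]
      show sm a _ _ = _
      rw [sm_mul]
      show sm a g⁻¹ (lift g' (toUnit T ≫ x₀) ≫ a.act) = _
      rw [← e]
      show sm a g⁻¹ (sm a g (toUnit T ≫ x₀)) = _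
      rw [← sm_mul, inv_mul_cancel, sm_one]
    obtain ⟨s, hs, -⟩ := hGo.exists_lift _ (toUnit T) hfix'
    have h1 : (g⁻¹ * g') ≫ pM = 1 := by rw [← hs, Category.assoc, hφ, MonObj.comp_one]
    rw [hpM, GrpObj.inv_comp, inv_mul_eq_one] at h1
    exact h1
  have hψeq : ∀ {T : Over (Spec (CommRingCat.of k))} (g : T ⟶ G) (x : T ⟶ X),
      sm a g x ≫ ψ = (g ≫ pM) * (x ≫ ψ) := fun {T} g x => by
    obtain ⟨W, p, h, hp, hpx⟩ := exists_cover_orbit a hff hfs x
    refine (cancel_epi p).1 ?_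
    have e : ∀ g' : W ⟶ G, sm a g' (toUnit W ≫ x₀) ≫ ψ = g' ≫ pM := fun g' => by
      show (lift g' (toUnit W ≫ x₀) ≫ a.act) ≫ ψ = _
      rw [← AlgGrp.Action.comp_orbitMap, Category.assoc, hψ]
    rw [← Category.assoc, comp_sm, hpx, ← sm_mul, e, MonObj.comp_mul, ← Category.assoc p g, ← Category.assoc p x, hpx,
      e, hpM]
  -- the fibre
  let Y := pullback ψ η[M]
  let y : Y ⟶ X := pullback.fst ψ η[M]
  have hy : IsPullback y (pullback.snd ψ η[M]) ψ η[M] := IsPullback.of_hasPullback _ _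
  haveI : Mono η[M] := (IsSplitMono.mk' ⟨toUnit M, toUnit_unique _ _⟩ : IsSplitMono η[M]).mono
  haveI : Mono y := inferInstanceAs (Mono (pullback.fst ψ η[M]))
  have hyψ : ∀ {T : Over (Spec (CommRingCat.of k))} (t : T ⟶ Y), (t ≫ y) ≫ ψ = 1 := fun {T} t => by
    rw [Category.assoc, hy.w, ← Category.assoc, toUnit_unique (t ≫ pullback.snd ψ η[M]) (toUnit T), Hom.one_def]
  have hylift : ∀ {T : Over (Spec (CommRingCat.of k))} (x : T ⟶ X), x ≫ ψ = 1 → ∃ t : T ⟶ Y, t ≫ y = x :=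
    fun {T} x h => by
      obtain ⟨t, ht, -⟩ := hy.exists_lift x (toUnit T) (by rw [h, Hom.one_def])
      exact ⟨t, ht⟩
  have hact : sm a (fst N Y ≫ i) (snd N Y ≫ y) ≫ ψ = 1 := by
    rw [hψeq, hyψ, _root_.mul_one]
    have := (hproj (fst N Y) (1 : N ⊗ Y ⟶ M)).2
    rwa [MonObj.one_comp, _root_.mul_one] at this
  obtain ⟨act, hact'⟩ := hylift _ hact
  have hact'' : ∀ {T : Over (Spec (CommRingCat.of k))} (n : T ⟶ N) (t : T ⟶ Y),
      (lift n t ≫ act) ≫ y = sm a (n ≫ i) (t ≫ y) := fun n t => by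
    rw [Category.assoc, hact', comp_sm, ← Category.assoc, lift_fst, ← Category.assoc, lift_snd]
  let b : AlgGrp.Action N Y := {
    act := act
    one_act := by
      refine (cancel_mono y).1 ?_
      rw [show η[N] ▷ Y = lift (1 : _ ⟶ N) (snd (𝟙_ _) Y) from CartesianMonoidalCategory.hom_ext _ _
        (by rw [lift_fst, whiskerRight_fst, Hom.one_def, toUnit_unique (fst (𝟙_ _) Y) (toUnit _)]) (by simp), hact'',
        MonObj.one_comp, sm_one, leftUnitor_hom]
    mul_act := by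
      refine (cancel_mono y).1 ?_
      rw [show μ[N] ▷ Y = lift ((fst (N ⊗ N) Y ≫ fst N N) * (fst (N ⊗ N) Y ≫ snd N N)) (snd (N ⊗ N) Y) from
        CartesianMonoidalCategory.hom_ext _ _
          (by rw [lift_fst, whiskerRight_fst, ← MonObj.comp_mul, Hom.mul_def (fst N N), lift_fst_snd,
            Category.id_comp]) (by simp),
        hact'', MonObj.mul_comp, sm_mul,
        show (α_ N N Y).hom ≫ (N ◁ act) ≫ act =
          lift (fst (N ⊗ N) Y ≫ fst N N) (lift (fst (N ⊗ N) Y ≫ snd N N) (snd (N ⊗ N) Y) ≫ act) ≫ act by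
            rw [← Category.assoc]; congr 1
            refine CartesianMonoidalCategory.hom_ext _ _ (by simp) ?_
            rw [lift_snd, Category.assoc, whiskerLeft_snd, ← Category.assoc]
            congr 1
            ext <;> simp,
        hact'', hact''] }
  have hfwd : sm a ((ψ ≫ j)⁻¹) (𝟙 X) ≫ ψ = 1 := by
    rw [hψeq, Category.id_comp, GrpObj.inv_comp]
    have := (hproj (1 : X ⟶ N) ψ).2
    rw [MonObj.one_comp, _root_.one_mul] at this
    rw [this, inv_mul_cancel]
  obtain ⟨xY, hxY⟩ := hylift _ hfwd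
  have hxY' : ∀ {T : Over (Spec (CommRingCat.of k))} (x : T ⟶ X), (x ≫ xY) ≫ y = sm a (((x ≫ ψ) ≫ j)⁻¹) x :=
    fun x => by rw [Category.assoc, hxY, comp_sm, GrpObj.comp_inv, Category.comp_id, ← Category.assoc]
  have hpMj : ∀ {T : Over (Spec (CommRingCat.of k))} (m : T ⟶ M), (m ≫ j) ≫ pM = m := fun m => by
    have := (hproj (1 : _ ⟶ N) m).2
    rwa [MonObj.one_comp, _root_.one_mul] at this
  have hbwdψ : sm a (fst M Y ≫ j) (snd M Y ≫ y) ≫ ψ = fst M Y := by
    rw [hψeq, hyψ, _root_.mul_one, hpMj]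
  let e : X ≅ M ⊗ Y := {
    hom := lift ψ xY
    inv := sm a (fst M Y ≫ j) (snd M Y ≫ y)
    hom_inv_id := by
      rw [comp_sm, ← Category.assoc, lift_fst, ← Category.assoc, lift_snd, ← Category.id_comp xY, hxY', Category.id_comp,
        ← sm_mul, mul_inv_cancel, sm_one]
    inv_hom_id := by
      refine CartesianMonoidalCategory.hom_ext _ _ ?_ ((cancel_mono y).1 ?_)
      · rw [Category.assoc, lift_fst, hbwdψ, Category.id_comp]
      · rw [Category.assoc _ (lift ψ xY), lift_snd, hxY', hbwdψ, ← sm_mul, inv_mul_cancel, sm_one, Category.id_comp] }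
  refine ⟨hiso, hMp, hss, hZ, Y, b, e, fun S m n x => ?_⟩
  have hfst : ∀ {T : Over (Spec (CommRingCat.of k))} (x : T ⟶ X), x ≫ e.hom ≫ fst M Y = x ≫ ψ := fun x => by
    simp [e]
  have hsnd : ∀ {T : Over (Spec (CommRingCat.of k))} (x : T ⟶ X), x ≫ e.hom ≫ snd M Y = x ≫ xY := fun x => by
    simp [e]
  have hg : ((m ≫ j) * (n ≫ i)) ≫ pM = m := by rw [hc]; exact (hproj n m).2
  rw [← Category.assoc, hfst, hsnd]
  show sm a _ x ≫ e.hom = _
  refine CartesianMonoidalCategory.hom_ext _ _ ?_ ((cancel_mono y).1 ?_)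
  · rw [lift_fst, Category.assoc, hfst, hψeq, hg, hcM]
  · rw [lift_snd, Category.assoc _ e.hom, hsnd, hxY', hψeq, hg, hact'', hxY', ← sm_mul, ← sm_mul]
    congr 1
    rw [MonObj.mul_comp]
    have h1 := hc m ((x ≫ ψ) ≫ j)
    have h2 := hc (x ≫ ψ) (n ≫ i)
    generalize m ≫ j = m1 at h1 h2 ⊢
    generalize (x ≫ ψ) ≫ j = ξ at h1 h2 ⊢
    generalize n ≫ i = n1 at h1 h2 ⊢
    calc (m1 * ξ)⁻¹ * (m1 * n1) = ξ⁻¹ * (n1 * ξ) * ξ⁻¹ := by group
      _ = n1 * ξ⁻¹ := by rw [← h2]; group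

end Groth.Agent.HomSpace15
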