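import Groth.Agent.Lib.HomSpace15.Rigid
import Groth.Agent.Lib.AffPart25.Albanese
import Groth.Agent.Lib.AbRigid.FlatFibre
import Groth.Agent.S14582
import Groth.Agent.S7996
import Groth.Agent.Lib.TorsorSch25.ExactPts

/-!
# Groups acting faithfully on a complete homogeneous variety
-/

set_option autoImplicit false
set_option linter.style.haveILetI false
set_option linter.unusedSimpArgs false
set_option backward.isDefEq.respectTransparency false
set_option backward.isDefEq.respectTransparency.types false
set_option maxSynthPendingDepth 3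
set_option synthInstance.maxHeartbeats 400000
universe u

open CategoryTheory Limits MonoidalCategory CartesianMonoidalCategory MonObj AlgebraicGeometry
open Groth.Agent

noncomputable section

namespace Groth.Agent.HomSpace15

variable {k : Type u} [Field k] [IsAlgClosed k]

local notation "K₀" => Over (Spec (CommRingCat.of k))

variable {G X : Over (Spec (CommRingCat.of k))} [GrpObj G] (a : AlgGrp.Action G X)

/-- The point `g · x`. -/
abbrev sm {T : Over (Spec (CommRingCat.of k))} (g : T ⟶ G) (x : T ⟶ X) : T ⟶ X := lift g x ≫ a.act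

omit [IsAlgClosed k] in
theorem comp_sm {T T' : Over (Spec (CommRingCat.of k))} (p : T' ⟶ T) (g : T ⟶ G) (x : T ⟶ X) :
    p ≫ sm a g x = sm a (p ≫ g) (p ≫ x) := by
  simp only [sm, ← Category.assoc, comp_lift]

omit [IsAlgClosed k] in
theorem sm_mul {T : Over (Spec (CommRingCat.of k))} (g g' : T ⟶ G) (x : T ⟶ X) :
    sm a (g * g') x = sm a g (sm a g' x) := AlgGrpBasic19.act_mul a g g' x

omit [IsAlgClosed k] in
theorem sm_one {T : Over (Spec (CommRingCat.of k))} (x : T ⟶ X) : sm a (1 : T ⟶ G) x = x :=
  AlgGrpBasic19.act_one a x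

/-- All orbit maps are flat and surjective. -/
theorem flat_surjective_of_trans [Smooth G.hom] [QuasiCompact G.hom] [IsProper X.hom] [IsIntegral X.left]
    (htrans : Surjective (lift a.act (snd G X)).left) (x₀ : 𝟙_ (Over (Spec (CommRingCat.of k))) ⟶ X) :
    Flat (a.orbitMap x₀).left ∧ Surjective (a.orbitMap x₀).left := by
  haveI : QuasiSeparated G.hom := AlgGrpBasic19.quasiSeparatedSpace
  haveI : LocallyOfFiniteType (G ⊗ X).hom := inferInstanceAs (LocallyOfFiniteType (pullback.fst G.hom X.hom ≫ G.hom))
  haveI : LocallyOfFiniteType (X ⊗ X).hom := inferInstanceAs (LocallyOfFiniteType (pullback.fst X.hom X.hom ≫ X.hom))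
  have htr : OrbitTop19.IsTransitive a := fun p q => by
    let s := lift a.act (snd G X)
    haveI : Surjective s.left := htrans
    let pq : 𝟙_ (Over (Spec (CommRingCat.of k))) ⟶ X ⊗ X := lift q p
    haveI : IsSeparated (X ⊗ X).hom := inferInstanceAs (IsSeparated (pullback.fst X.hom X.hom ≫ X.hom))
    haveI : IsClosedImmersion pq.left := isClosedImmersion_of_comp_eq_id (X ⊗ X).hom _ (Over.w pq)
    have hsq : IsPullback (pullback.fst s pq) (pullback.snd s pq) s pq := IsPullback.of_hasPullback _ _
    haveI : IsClosedImmersion (pullback.fst s pq).left :=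
      MorphismProperty.of_isPullback (hsq.map (Over.forget _)).flip ‹IsClosedImmersion pq.left›
    haveI : Surjective (pullback.snd s pq).left :=
      MorphismProperty.of_isPullback (hsq.map (Over.forget _)) ‹Surjective s.left›
    haveI : LocallyOfFiniteType (pullback s pq).hom := by rw [← Over.w (pullback.fst s pq)]; infer_instance
    haveI : JacobsonSpace (pullback s pq).left := LocallyOfFiniteType.jacobsonSpace (pullback s pq).hom
    obtain ⟨z, -⟩ := (pullback.snd s pq).left.surjective (IsLocalRing.closedPoint k)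
    obtain ⟨c, -, hc⟩ := nonempty_inter_closedPoints (⟨z, trivial⟩ : (Set.univ : Set (pullback s pq).left).Nonempty)
      isClosed_univ.isLocallyClosed
    obtain ⟨t, -⟩ := OrbitTop19.exists_point (pullback s pq) c hc
    have e := congrArg (fun m => t ≫ m) hsq.w
    simp only [← Category.assoc] at e
    rw [toUnit_unique (t ≫ pullback.snd s pq) (𝟙 _), Category.id_comp] at e
    refine ⟨t ≫ pullback.fst s pq ≫ fst G X, ?_⟩
    have e1 : (t ≫ pullback.fst s pq) ≫ a.act = q := by
      have := congrArg (fun m => m ≫ fst X X) e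
      simpa [s, pq] using this
    have e2 : (t ≫ pullback.fst s pq) ≫ snd G X = p := by
      have := congrArg (fun m => m ≫ snd X X) e
      simpa [s, pq] using this
    rw [OrbitTop19.comp_tr]
    refine Eq.trans ?_ e1
    congr 1
    refine CartesianMonoidalCategory.hom_ext _ _ ?_ ?_
    · rw [lift_fst, toUnit_unique (toUnit _) (𝟙 _), Category.id_comp, Category.assoc]
    · rw [lift_snd, e2]
  haveI : Nonempty X.left := ⟨Classical.arbitrary _⟩
  haveI : IsLocallyNoetherian X.left := LocallyOfFiniteType.isLocallyNoetherian X.hom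
  haveI : CompactSpace X.left := QuasiCompact.compactSpace_of_compactSpace X.hom
  haveI : QuasiSeparatedSpace X.left := inferInstance
  haveI : QuasiCompact (a.orbitMap x₀).left := AlgGrpBasic19.quasiCompact_left _
  haveI : LocallyOfFiniteType ((a.orbitMap x₀).left ≫ X.hom) := by rw [Over.w]; infer_instance
  haveI : LocallyOfFiniteType (a.orbitMap x₀).left := locallyOfFiniteType_of_comp _ X.hom
  haveI := VarDim.locallyOfFinitePresentation_of_locallyNoetherian (a.orbitMap x₀).left
  haveI : Nonempty G.left := ⟨(1 : 𝟙_ (Over (Spec (CommRingCat.of k))) ⟶ G).left (IsLocalRing.closedPoint k)⟩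
  obtain ⟨W, hW, hne, hflat⟩ := OrbitTop19.exists_open_flat (a.orbitMap x₀).left
  exact OrbitTop19.flat_surjective (a := OrbitTop19.mulAction G) (b := a) htr
    (OrbitTop19.orbitMap_equivariant a x₀) hW hne hflat

omit [IsAlgClosed k] in
/-- Every point is locally a translate of a given one. -/
theorem exists_cover_orbit [LocallyOfFiniteType X.hom] [QuasiCompact G.hom]
    {x₀ : 𝟙_ (Over (Spec (CommRingCat.of k))) ⟶ X} (hf : Flat (a.orbitMap x₀).left)
    (hs : Surjective (a.orbitMap x₀).left) {T : Over (Spec (CommRingCat.of k))} (x : T ⟶ X) :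
    ∃ (W : Over (Spec (CommRingCat.of k))) (p : W ⟶ T) (h : W ⟶ G), Epi p ∧
      p ≫ x = sm a h (toUnit W ≫ x₀) := by
  haveI : QuasiCompact (a.orbitMap x₀).left := AlgGrpBasic19.quasiCompact_left _
  have hsq : IsPullback (pullback.fst x (a.orbitMap x₀)) (pullback.snd x (a.orbitMap x₀)) x (a.orbitMap x₀) :=
    IsPullback.of_hasPullback _ _
  let p := pullback.fst x (a.orbitMap x₀)
  haveI : Flat p.left := MorphismProperty.of_isPullback (hsq.map (Over.forget _)).flip hf
  haveI : Surjective p.left := MorphismProperty.of_isPullback (hsq.map (Over.forget _)).flip hs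
  haveI : QuasiCompact p.left :=
    MorphismProperty.of_isPullback (hsq.map (Over.forget _)).flip ‹QuasiCompact (a.orbitMap x₀).left›
  exact ⟨_, p, pullback.snd x (a.orbitMap x₀), AlgGrpBasic19.epi_of_cover p,
    hsq.w.trans (AlgGrp.Action.comp_orbitMap a _ x₀)⟩

end Groth.Agent.HomSpace15
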