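import Groth.Agent.Lib.HomSpace15.Cell

/-!
# Homomorphisms on a subgroup containing a Borel subgroup
-/

set_option autoImplicit false
set_option linter.style.haveILetI false
set_option linter.unusedSimpArgs false
set_option backward.isDefEq.respectTransparency false
set_option backward.isDefEq.respectTransparency.types false
set_option maxSynthPendingDepth 3
set_option synthInstance.maxHeartbeats 400000
universe u

open CategoryTheory Limits MonoidalCategory CartesianMonoidalCategory MonObj AlgebraicGeometry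
open Groth.Agent

noncomputable section

namespace Groth.Agent.HomSpace15

open DiagGL TorPts21 AttrBorel21

attribute [local instance] InvRing21.gamAlg

variable {k : Type u} [Field k] [IsAlgClosed k] {G : Over (Spec (CommRingCat.of k))} [GrpObj G] [IsAffine G.left]
  [Smooth G.hom] [ConnectedSpace G.left]

set_option maxHeartbeats 1600000 in
/-- **A subgroup containing a Borel subgroup has no homomorphism killing the Borel subgroup.** -/
theorem exists_borel_rigid : ∃ (B : Over (Spec (CommRingCat.of k))) (_ : GrpObj B) (iB : B ⟶ G),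
    Red.IsBorelOver k iB ∧
    ∀ (P : Over (Spec (CommRingCat.of k))) [GrpObj P] (iP : P ⟶ G) [IsMonHom iP] [IsClosedImmersion iP.left]
      (M : Over (Spec (CommRingCat.of k))) [GrpObj M] [IsSeparated M.hom] (φ : P ⟶ M) [IsMonHom φ] (bP : B ⟶ P),
      bP ≫ iP = iB → bP ≫ φ = 1 → φ = 1 := by
  obtain ⟨n, d, T, _, iT, hiT, C, r, hr, hrc, a, b, hdiag, B, _, iB, U, π, hB, hBlk, hπf, hπl, ⟨u, hu⟩, hπd⟩ :=
    exists_cell (G := G)
  haveI := hiT; haveI := hr; haveI := hrc
  refine ⟨B, inferInstance, iB, hB, fun P _ iP _ _ M _ _ φ _ bP hbP hbφ => ?_⟩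
  obtain ⟨hBm, hBc, hBs, hBn, -, -⟩ := id hB
  haveI := hBm; haveI := hBc; haveI := hBs; haveI := hBn
  haveI : Mono iP := Over.mono_of_mono_left iP
  haveI : LocallyOfFiniteType P.hom := by rw [← Over.w iP]; infer_instance
  -- points over the open cell
  have h0 : ∀ (X : Over (Spec (CommRingCat.of k))) (x : X ⟶ G), Blk (BigCell21.wt a (-b)) (mat (x ≫ r)) →
      ∃ p : X ⟶ P, p ≫ iP = x ∧ p ≫ φ = 1 := fun X x hx => by
    obtain ⟨y, hy⟩ := hBlk X x hx
    exact ⟨y ≫ bP, by rw [Category.assoc, hbP, hy], by rw [Category.assoc, hbφ, MonObj.comp_one]⟩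
  have hT : ∀ (X : Over (Spec (CommRingCat.of k))) (t : X ⟶ T), ∃ p : X ⟶ P, p ≫ iP = t ≫ iT ∧ p ≫ φ = 1 :=
    fun X t => h0 X _ (blk_torus r hdiag (-b) t)
  have hk : IsPullback (pullback.fst iP π) (pullback.snd iP π) iP π := IsPullback.of_hasPullback _ _
  set Z := pullback iP π
  set pP : Z ⟶ P := pullback.fst iP π
  haveI : Flat π.left := hπf
  haveI : LocallyOfFinitePresentation π.left := hπl
  haveI : Flat pP.left := MorphismProperty.of_isPullback (hk.map (Over.forget _)).flip hπf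
  haveI : LocallyOfFinitePresentation pP.left := MorphismProperty.of_isPullback (hk.map (Over.forget _)).flip hπl
  have hZ : pP ≫ φ = 1 := hom_ext_affine _ _ fun V _ z => by
    haveI : IsIso (InvRing21.uPt V).left := inferInstanceAs (IsIso V.left.isoSpec.inv)
    haveI : IsIso ((Over.forget _).map (InvRing21.uPt V)) := ‹_›
    haveI : IsIso (InvRing21.uPt V) := isIso_of_reflects_iso _ (Over.forget _)
    obtain ⟨y, q, hyq, hq⟩ := hπd V (z ≫ pullback.snd iP π)
    rw [MonObj.comp_one, ← Category.assoc]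
    have e : (z ≫ pP) ≫ iP = (y ≫ iB) * q := by
      rw [Category.assoc, hk.w, ← Category.assoc, hyq]
    let dp : V ⟶ P := (y ≫ bP)⁻¹ * (z ≫ pP)
    have hdp : dp ≫ iP = q := by
      simp only [dp, MonObj.mul_comp, GrpObj.inv_comp]
      rw [e, Category.assoc, hbP]
      group
    have hd : dp ≫ φ = 1 := by
      refine (cancel_epi (InvRing21.uPt V)).1 ?_
      rw [MonObj.comp_one, ← Category.assoc]
      refine comp_eq_one_of_blk hdiag b iP φ hT h0 (InvRing21.uPt V ≫ dp) ?_
      rw [show ((InvRing21.uPt V ≫ dp) ≫ iP) ≫ r = InvRing21.uPt V ≫ q ≫ r by simp [← hdp], mat_comp]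
      exact hq.map _
    simp only [dp, MonObj.mul_comp, GrpObj.inv_comp] at hd
    rwa [Category.assoc y bP, hbφ, MonObj.comp_one, inv_one, _root_.one_mul] at hd
  -- the open neighbourhood of the identity
  haveI : UniversallyOpen pP.left := UniversallyOpen.of_flat pP.left
  let Ω : P.left.Opens := ⟨Set.range pP.left, pP.left.isOpenMap.isOpen_range⟩
  let O : Over (Spec (CommRingCat.of k)) := Over.mk (Ω.ι ≫ P.hom)
  let o : O ⟶ P := Over.homMk Ω.ι rfl
  have hO : o ≫ φ = 1 := by
    have hr : Set.range pP.left ⊆ Set.range Ω.ι := by rw [Scheme.Opens.range_ι]; exact le_rfl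
    let l := IsOpenImmersion.lift Ω.ι pP.left hr
    have hl : l ≫ Ω.ι = pP.left := IsOpenImmersion.lift_fac _ _ _
    haveI : Flat (l ≫ Ω.ι) := hl ▸ inferInstance
    haveI : Flat l := MorphismProperty.of_postcomp (W := @Flat) (W' := @IsOpenImmersion) l Ω.ι inferInstance inferInstance
    haveI : Surjective l := ⟨fun x => by
      obtain ⟨z, hz⟩ : (Ω.ι x) ∈ Set.range pP.left := (Scheme.Opens.range_ι Ω).le ⟨x, rfl⟩
      exact ⟨z, Ω.ι.isOpenEmbedding.injective (by rw [← hz, ← Scheme.Hom.comp_apply, hl])⟩⟩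
    haveI : Epi l := Flat.epi_of_flat_of_surjective l
    let lO : Z ⟶ O := Over.homMk l (by show l ≫ Ω.ι ≫ P.hom = _; rw [reassoc_of% hl, Over.w])
    refine Over.OverMorphism.ext ((cancel_epi l).1 ?_)
    have e1 : lO ≫ o ≫ φ = lO ≫ 1 := by
      rw [MonObj.comp_one, ← Category.assoc, show lO ≫ o = pP from Over.OverMorphism.ext hl, hZ]
    exact congrArg CommaMorphism.left e1
  have hmem : ∀ {X : Over (Spec (CommRingCat.of k))} (x : X ⟶ P), Set.range x.left ⊆ (Ω : Set P.left) → x ≫ φ = 1 :=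
    fun {X} x hx => by
      have hr : Set.range x.left ⊆ Set.range Ω.ι := by rw [Scheme.Opens.range_ι]; exact hx
      let x' : X ⟶ O := Over.homMk (IsOpenImmersion.lift Ω.ι x.left hr) (by
        show IsOpenImmersion.lift Ω.ι x.left hr ≫ Ω.ι ≫ P.hom = _
        rw [IsOpenImmersion.lift_fac_assoc, Over.w])
      rw [show x = x' ≫ o from Over.OverMorphism.ext (IsOpenImmersion.lift_fac _ _ _).symm, Category.assoc, hO,
        MonObj.comp_one]
  have hone : ((1 : 𝟙_ (Over (Spec (CommRingCat.of k))) ⟶ P).left (IsLocalRing.closedPoint k)) ∈ Ω := by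
    let z₀ : VecGrp.pt k k ⟶ Z := hk.lift 1 u (by rw [MonObj.one_comp, hu])
    refine ⟨z₀.left (IsLocalRing.closedPoint k), ?_⟩
    have e1 : z₀ ≫ pP = toUnit _ ≫ (1 : 𝟙_ (Over (Spec (CommRingCat.of k))) ⟶ P) := by
      rw [show z₀ ≫ pP = 1 from hk.lift_fst _ _ _, MonObj.comp_one]
    rw [← Scheme.Hom.comp_apply, ← Over.comp_left, e1, Over.comp_left, Scheme.Hom.comp_apply]
    congr 1
  -- translations
  let tr : (𝟙_ (Over (Spec (CommRingCat.of k))) ⟶ P) → (P ⟶ P) := fun x => (toUnit P ≫ x) * 𝟙 P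
  have htr : ∀ x y : 𝟙_ (Over (Spec (CommRingCat.of k))) ⟶ P, y ≫ tr x = x * y := fun x y => by
    simp only [tr, MonObj.comp_mul, ← Category.assoc, toUnit_unique (y ≫ toUnit P) (𝟙 _), Category.id_comp,
      Category.comp_id]
  let pt : Spec (CommRingCat.of k) := IsLocalRing.closedPoint k
  -- irreducibility
  obtain ⟨H, _, ρ, hρm, hρc, hρs, hHr, hHs⟩ := BorelFix21.exists_reduced_subgroup P
  haveI := hρm; haveI := hρc; haveI := hρs; haveI := hHr; haveI := hHs
  haveI : IsReduced B.left := OrbitTop19.isReduced_of_smooth B.hom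
  obtain ⟨bH, hbH⟩ := PerfProd19.exists_lift_of_surjective ρ bP
  haveI : IsClosedImmersion (ρ ≫ iP).left := by rw [Over.comp_left]; infer_instance
  haveI : ConnectedSpace H.left := connectedSpace_of_isParabolicOver (iP := ρ ≫ iP)
    ⟨inferInstance, inferInstance, hHs, B, inferInstance, bH, by rw [← Category.assoc, hbH, hbP]; exact hB⟩
  haveI : IrreducibleSpace H.left := AbRigid.irreducibleSpace_of_isAlgClosed H
  haveI : PreirreducibleSpace P.left := ⟨by
    have h := (PreirreducibleSpace.isPreirreducible_univ (X := H.left)).image _ ρ.left.continuous.continuousOn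
    rwa [Set.image_univ, ρ.left.surjective.range_eq] at h⟩
  haveI : JacobsonSpace P.left := LocallyOfFiniteType.jacobsonSpace P.hom
  have hpt : ∀ x : 𝟙_ (Over (Spec (CommRingCat.of k))) ⟶ P, x ≫ φ = 1 := fun x => by
    let V := (tr x⁻¹).left ⁻¹ᵁ Ω
    have hxV : x.left pt ∈ V := by
      show (tr x⁻¹).left (x.left pt) ∈ Ω
      rw [← Scheme.Hom.comp_apply, ← Over.comp_left, htr, inv_mul_cancel]
      exact hone
    obtain ⟨c, ⟨hcV, hcΩ⟩, hc⟩ := nonempty_inter_closedPoints
      (nonempty_preirreducible_inter V.isOpen Ω.isOpen ⟨_, hxV⟩ ⟨_, hone⟩) (V.isOpen.inter Ω.isOpen).isLocallyClosed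
    obtain ⟨y, rfl⟩ := OrbitTop19.exists_point P c hc
    have hy : y ≫ φ = 1 := hmem y (by
      rintro _ ⟨z, rfl⟩
      rw [Subsingleton.elim (α := PrimeSpectrum k) z pt]
      exact hcΩ)
    have hxy : (x⁻¹ * y) ≫ φ = 1 := hmem _ (by
      rintro _ ⟨z, rfl⟩
      rw [Subsingleton.elim (α := PrimeSpectrum k) z pt, ← htr, Over.comp_left, Scheme.Hom.comp_apply]
      exact hcV)
    rwa [MonObj.mul_comp, GrpObj.inv_comp, hy, _root_.mul_one, inv_eq_one] at hxy
  -- the translates of the neighbourhood cover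
  let V : (𝟙_ (Over (Spec (CommRingCat.of k))) ⟶ P) → P.left.Opens := fun x => (tr x⁻¹).left ⁻¹ᵁ Ω
  have hcov : TopologicalSpace.IsOpenCover V := by
    refine TopologicalSpace.IsOpenCover.mk (eq_top_iff.2 fun z _ => ?_)
    by_contra hz
    obtain ⟨c, hcS, hc⟩ := nonempty_inter_closedPoints (⟨z, hz⟩ : ((⨆ x, V x : P.left.Opens) : Set P.left)ᶜ.Nonempty)
      (⨆ x, V x).isOpen.isClosed_compl.isLocallyClosed
    obtain ⟨x, rfl⟩ := OrbitTop19.exists_point P c hc
    refine hcS (TopologicalSpace.Opens.mem_iSup.2 ⟨x, ?_⟩)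
    show (tr x⁻¹).left (x.left pt) ∈ Ω
    rw [← Scheme.Hom.comp_apply, ← Over.comp_left, htr, inv_mul_cancel]
    exact hone
  refine Over.OverMorphism.ext (Scheme.Cover.hom_ext (P.left.openCoverOfIsOpenCover V hcov) _ _ fun x => ?_)
  let Vx : Over (Spec (CommRingCat.of k)) := Over.mk ((V x).ι ≫ P.hom)
  let v : Vx ⟶ P := Over.homMk (V x).ι rfl
  have h1 : (v ≫ tr x⁻¹) ≫ φ = 1 := hmem _ (by
    rintro _ ⟨z, rfl⟩
    rw [Over.comp_left, Scheme.Hom.comp_apply]
    exact z.2)
  have h2 : v ≫ φ = v ≫ 1 := by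
    simp only [tr, MonObj.comp_mul, MonObj.mul_comp, Category.comp_id, Category.assoc, GrpObj.inv_comp, hpt x,
      inv_one, MonObj.comp_one, _root_.one_mul] at h1
    rw [h1, MonObj.comp_one]
  exact congrArg CommaMorphism.left h2

end Groth.Agent.HomSpace15
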